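import Cfsg.Agent.Lib.Helper7.PGL.ASM
import Cfsg.Agent.Lib.Helper7.PSL2TorMax

set_option autoImplicit false
set_option linter.unusedSimpArgs false
set_option linter.unusedSectionVars false
set_option linter.unusedVariables false

/-! Ladder PGL90 (statement S5890), rung OVI. -/

namespace Cfsg.Agent.Lib.Helper7.PGLMax

open Matrix MatrixGroups Subgroup Cfsg.Agent.Lib.Helper46 Cfsg.Agent.Lib.Helper18.SL2
open Cfsg.Agent.Lib.Helper7 Cfsg.Agent.Lib.Helper7.PMax

variable {F : Type*} [Field F]

theorem ov_insub [Fintype F] {K : Subfield F} {D : GL (Fin 2) F}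
    {H : Subgroup (SpecialLinearGroup (Fin 2) F)}
    (hZ : center (SpecialLinearGroup (Fin 2) F) ≤ H) (hIn : InSub K D H) (hH : H ≠ ⊤) :
    2 ≤ Module.finrank K F ∧ Nat.card K ^ 2 ≤ Fintype.card F ∧
      Nat.card H ∣ 2 * (Nat.card K * (Nat.card K ^ 2 - 1)) := by
  have hIn' : InSub K D (pre (img H)) := by rw [pre_img hZ]; exact hIn
  obtain ⟨h1, h2⟩ := InSub.card_dvd hIn'
  rw [pre_img hZ] at h1
  have hq := card_eq_pow (F := F) K
  have hk : 2 ≤ Nat.card K := by
    have := Fintype.ofFinite K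
    rw [Nat.card_eq_fintype_card]
    exact Fintype.one_lt_card
  have hF : 2 ≤ Fintype.card F := Fintype.one_lt_card
  have hr : 2 ≤ Module.finrank K F := by
    by_contra hlt
    have hcases : Module.finrank K F = 0 ∨ Module.finrank K F = 1 := by omega
    rcases hcases with h0 | h0
    · rw [h0, pow_zero] at hq
      omega
    · rw [h0, pow_one] at hq
      apply hH
      rw [← pre_img hZ, h2 hq.symm, pre_top]
  refine ⟨hr, ?_, h1⟩
  rw [hq]
  exact Nat.pow_le_pow_right (by omega) hr


end Cfsg.Agent.Lib.Helper7.PGLMax
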