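import Cfsg.Agent.Lib.Helper7.PGL.ASM
import Cfsg.Agent.Lib.Helper7.PSL2TorMax
import Cfsg.Agent.Lib.Helper7.PGL90.OVI

set_option autoImplicit false
set_option linter.unusedSimpArgs false
set_option linter.unusedSectionVars false
set_option linter.unusedVariables false

/-! Ladder PGL90 (statement S5890), rung OVA. -/

namespace Cfsg.Agent.Lib.Helper7.PGLMax

open Matrix MatrixGroups Subgroup Cfsg.Agent.Lib.Helper46 Cfsg.Agent.Lib.Helper18.SL2
open Cfsg.Agent.Lib.Helper7 Cfsg.Agent.Lib.Helper7.PMax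

variable {F : Type*} [Field F]

theorem ova_mod {q m : ℕ} (hq : 1 ≤ q) (h : m ∣ q * (q ^ 2 - 1)) : (q % m) ^ 3 % m = q % m := by
  have h1 : q ^ 3 = q * (q ^ 2 - 1) + q := by
    have h2 : 1 ≤ q ^ 2 := Nat.one_le_pow _ _ hq
    obtain ⟨w, hw⟩ : ∃ w, q ^ 2 = w + 1 := ⟨q ^ 2 - 1, by omega⟩
    have h3 : q ^ 2 - 1 = w := by omega
    rw [h3]
    calc q ^ 3 = q * q ^ 2 := by ring
      _ = q * (w + 1) := by rw [hw]
      _ = q * w + q := by ring
  rw [← Nat.pow_mod, h1, Nat.add_mod, Nat.mod_eq_zero_of_dvd h, zero_add, Nat.mod_mod]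

theorem ova [Fintype F] (hodd : Odd (Fintype.card F)) (h3 : 3 < Fintype.card F)
    (p : ℕ) [Fact p.Prime] [CharP F p]
    (hprime : (Fintype.card F).Prime) (h8 : Fintype.card F % 8 = 3 ∨ Fintype.card F % 8 = 5)
    (h40 : Fintype.card F % 40 ∉ ({11, 19, 21, 29} : Finset ℕ))
    {N H : Subgroup (SpecialLinearGroup (Fin 2) F)}
    (hZ : center (SpecialLinearGroup (Fin 2) F) ≤ N) (hNH : N ≤ H) (hH : H ≠ ⊤)
    (hcard : Nat.card N = 24) (e : img N ≃* alternatingGroup (Fin 4)) : H ≤ N := by
  have h2 : (2 : F) ≠ 0 := PSub.two_ne_zero_of_odd_card hodd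
  have hz : zc F = 2 := zc_of_two_ne h2
  have hZH : center (SpecialLinearGroup (Fin 2) F) ≤ H := hZ.trans hNH
  have hpodd : Odd p := by
    rcases (Fact.out : p.Prime).eq_two_or_odd' with rfl | ho
    · exfalso
      apply h2
      exact_mod_cast CharP.cast_eq_zero F 2
    · exact ho
  have himg : img N ≤ img H := Subgroup.map_mono hNH
  have heq : Nat.card H ≤ Nat.card N → H ≤ N := fun hc =>
    (Subgroup.eq_of_le_of_card_ge hNH hc).ge
  have hne : Nat.card H ≠ Fintype.card F * (Fintype.card F ^ 2 - 1) := by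
    intro hc
    apply hH
    apply Subgroup.eq_top_of_card_eq
    rw [hc, card_SL2]
  have hdvd : Nat.card H ∣ Fintype.card F * (Fintype.card F ^ 2 - 1) := by
    rw [← card_SL2]; exact Subgroup.card_subgroup_dvd_card H
  rcases dickson_full' p H hZH with h | h | h | ⟨K, D, hIn, hK⟩
  · exfalso
    have hB : BorType (pre (img H)) := by rw [pre_img hZH]; exact h
    obtain ⟨g, hg⟩ := hB.commutator
    refine A4_not_pow hpodd (transfer_pow himg e p ?_)
    apply forall_mk
    intro x hx
    apply forall_mk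
    intro y hy
    obtain ⟨e, he⟩ := hg x hx y hy
    have h1 : (x * y * x⁻¹ * y⁻¹) ^ p = 1 := by
      have e1 : (g⁻¹ * uu e * g) ^ p = g⁻¹ * uu e ^ p * g := by
        have := conj_pow (a := g⁻¹) (b := uu e) (i := p)
        simpa using this
      rw [he, e1, uu_pow, CharP.cast_eq_zero, zero_mul, uu_zero]
      group
    have := congrArg (fun w => (QuotientGroup.mk w : ProjectiveSpecialLinearGroup (Fin 2) F)) h1
    simpa using this
  · exfalso
    have h' : Tor (pre (img H)) := by rw [pre_img hZH]; exact h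
    refine A4_not_sq (transfer_sq himg e ?_)
    apply forall_mk
    intro x hx
    apply forall_mk
    intro y hy
    exact (Tor.sq_comm h' x hx y hy).map
      (QuotientGroup.mk' (center (SpecialLinearGroup (Fin 2) F)))
  · have hHcard : Nat.card H = 24 ∨ Nat.card H = 48 ∨ Nat.card H = 120 := by
      rcases h with ⟨h, -⟩ | ⟨h, -⟩ | ⟨h, -⟩ <;> rw [hz] at h <;> omega
    rcases hHcard with hc | hc | hc
    · apply heq
      rw [hcard, hc]
    · exfalso
      rw [hc] at hdvd
      have h16 : 16 ∣ Fintype.card F * (Fintype.card F ^ 2 - 1) :=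
        Dvd.dvd.trans (by norm_num) hdvd
      have h5 := ova_mod (by omega) h16
      have hr : Fintype.card F % 16 = 3 ∨ Fintype.card F % 16 = 5 ∨ Fintype.card F % 16 = 11 ∨
          Fintype.card F % 16 = 13 := by omega
      rcases hr with h | h | h | h <;> rw [h] at h5 <;> norm_num at h5
    · exfalso
      rw [hc] at hdvd hne
      have h5' : 5 ∣ Fintype.card F * (Fintype.card F ^ 2 - 1) :=
        Dvd.dvd.trans (by norm_num) hdvd
      have h5 := ova_mod (by omega) h5'
      simp only [Finset.mem_insert, Finset.mem_singleton, not_or] at h40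
      have hr : Fintype.card F % 5 = 0 ∨ Fintype.card F % 5 = 2 ∨ Fintype.card F % 5 = 3 := by
        omega
      rcases hr with h | h | h
      · have h6 : 5 ∣ Fintype.card F := Nat.dvd_of_mod_eq_zero h
        have h7 : 5 = Fintype.card F := (Nat.prime_dvd_prime_iff_eq Nat.prime_five hprime).1 h6
        rw [← h7] at hne
        norm_num at hne
      · rw [h] at h5; norm_num at h5
      · rw [h] at h5; norm_num at h5
  · exfalso
    obtain ⟨hr, hk2, -⟩ := ov_insub hZH hIn hH
    have hq := card_eq_pow (F := F) K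
    have h6 := base_eq_of_prime hprime hK hq
    rw [h6] at hk2
    have h7 : Fintype.card F * 4 ≤ Fintype.card F ^ 2 := by
      rw [pow_two]; exact Nat.mul_le_mul_left _ (by omega)
    omega


end Cfsg.Agent.Lib.Helper7.PGLMax
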