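import Cfsg.Agent.Lib.Helper7.PGL.ASM
import Cfsg.Agent.Lib.Helper7.PSL2TorMax
import Cfsg.Agent.Lib.Helper7.PGL90.OVI

set_option autoImplicit false
set_option linter.unusedSimpArgs false
set_option linter.unusedSectionVars false
set_option linter.unusedVariables false

/-! Ladder PGL90 (statement S5890), rung OVB. -/

namespace Cfsg.Agent.Lib.Helper7.PGLMax

open Matrix MatrixGroups Subgroup Cfsg.Agent.Lib.Helper46 Cfsg.Agent.Lib.Helper18.SL2
open Cfsg.Agent.Lib.Helper7 Cfsg.Agent.Lib.Helper7.PMax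

variable {F : Type*} [Field F]

theorem ovb [Fintype F] (hodd : Odd (Fintype.card F)) (h3 : 3 < Fintype.card F)
    (p : ℕ) [Fact p.Prime] [CharP F p]
    {N H : Subgroup (SpecialLinearGroup (Fin 2) F)}
    (hZ : center (SpecialLinearGroup (Fin 2) F) ≤ N) (hNH : N ≤ H) (hH : H ≠ ⊤)
    (hcard : Nat.card N = Fintype.card F * (Fintype.card F - 1)) : H ≤ N := by
  have h2 : (2 : F) ≠ 0 := PSub.two_ne_zero_of_odd_card hodd
  have hz : zc F = 2 := zc_of_two_ne h2
  have hZH : center (SpecialLinearGroup (Fin 2) F) ≤ H := hZ.trans hNH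
  have hle : Nat.card N ≤ Nat.card H := Subgroup.card_le_of_le hNH
  have hdvd : Nat.card N ∣ Nat.card H := Subgroup.card_dvd_of_le hNH
  have heq : Nat.card H ≤ Nat.card N → H ≤ N := fun hc =>
    (Subgroup.eq_of_le_of_card_ge hNH hc).ge
  have hne : Nat.card H ≠ Fintype.card F * (Fintype.card F ^ 2 - 1) := by
    intro hc
    apply hH
    apply Subgroup.eq_top_of_card_eq
    rw [hc, card_SL2]
  have h5 : 5 ≤ Fintype.card F := by
    obtain ⟨t, ht⟩ := hodd
    omega
  rw [hcard] at hle hdvd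
  rcases dickson_full' p H hZH with h | h | h | ⟨K, D, hIn, hK⟩
  · have hB : BorType H := h
    apply heq
    rw [hcard]
    exact hB.card_le
  · exfalso
    have h6 := Tor.card_le h
    have h7 : Fintype.card F * 4 ≤ Fintype.card F * (Fintype.card F - 1) :=
      Nat.mul_le_mul_left _ (by omega)
    omega
  · exfalso
    have hHcard : Nat.card H = 24 ∨ Nat.card H = 48 ∨ Nat.card H = 120 := by
      rcases h with ⟨h, -⟩ | ⟨h, -⟩ | ⟨h, -⟩ <;> rw [hz] at h <;> omega
    generalize Fintype.card F = q at *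
    have hq11 : q ≤ 11 := by
      by_contra hcon
      have h12 : 12 ≤ q := by omega
      have h7 : 12 * 11 ≤ q * (q - 1) := Nat.mul_le_mul h12 (by omega)
      omega
    obtain ⟨t, ht⟩ := hodd
    rcases hHcard with hc | hc | hc <;> rw [hc] at hdvd hne <;> interval_cases q <;>
      omega
  · exfalso
    obtain ⟨-, h6, h7⟩ := ov_insub hZH hIn hH
    set k := Nat.card K with hk
    have hpos : 0 < 2 * (k * (k ^ 2 - 1)) := by
      have : 9 ≤ k ^ 2 := by nlinarith
      have : 0 < k ^ 2 - 1 := by omega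
      positivity
    have h8 := Nat.le_of_dvd hpos h7
    have h9 : k ^ 2 * (k ^ 2 - 1) ≤ Fintype.card F * (Fintype.card F - 1) :=
      Nat.mul_le_mul h6 (by omega)
    have h10 : 2 * (k * (k ^ 2 - 1)) < k ^ 2 * (k ^ 2 - 1) := by
      have : 9 ≤ k ^ 2 := by nlinarith
      have h11 : 0 < k ^ 2 - 1 := by omega
      have h12 : 2 * k < k ^ 2 := by nlinarith
      calc 2 * (k * (k ^ 2 - 1)) = (2 * k) * (k ^ 2 - 1) := by ring
        _ < k ^ 2 * (k ^ 2 - 1) := Nat.mul_lt_mul_of_pos_right h12 h11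
    omega


end Cfsg.Agent.Lib.Helper7.PGLMax
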