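import Cfsg.Agent.Lib.Helper7.PGL.ASM
import Cfsg.Agent.Lib.Helper7.PSL2TorMax
import Cfsg.Agent.Lib.Helper7.PSL2Emb
import Cfsg.Agent.Lib.Helper7.SL2PAct2

set_option autoImplicit false
set_option linter.unusedSimpArgs false
set_option linter.unusedSectionVars false
set_option linter.unusedVariables false

/-! Ladder PGL90 (statement S5890), rung OVS1. -/

namespace Cfsg.Agent.Lib.Helper7.PGLMax

open Matrix MatrixGroups Subgroup Cfsg.Agent.Lib.Helper46 Cfsg.Agent.Lib.Helper18.SL2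
open Cfsg.Agent.Lib.Helper7 Cfsg.Agent.Lib.Helper7.PMax

variable {F : Type*} [Field F]

theorem ovs_bor {L : Subfield F} {D : GL (Fin 2) F}
    {H : Subgroup (SpecialLinearGroup (Fin 2) F)} (hNH : pre (subM L D) ≤ H) : ¬ BorType H := by
  rintro ⟨g, hg⟩
  have hmem : ∀ s : SpecialLinearGroup (Fin 2) L, embK L D s ∈ H := fun s =>
    hNH (InSub.embK_mem (InSub_subM L D) (center_le_pre _) s)
  set P : GL (Fin 2) F := SpecialLinearGroup.toGL g * D⁻¹ with hP
  have key : ∀ s₀ : SpecialLinearGroup (Fin 2) L,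
      (P.1 * (SpecialLinearGroup.map (n := Fin 2) L.subtype s₀).1 * (P⁻¹).1) 1 0 = 0 := by
    intro s₀
    have h1 := hg _ (hmem s₀)
    have e : SpecialLinearGroup.toGL (g * embK L D s₀ * g⁻¹) =
        P * SpecialLinearGroup.toGL (SpecialLinearGroup.map (n := Fin 2) L.subtype s₀) * P⁻¹ := by
      rw [map_mul, map_mul, map_inv]
      show _ * SpecialLinearGroup.toGL
        (conjGL D (SpecialLinearGroup.map (n := Fin 2) L.subtype s₀)) * _ = _
      rw [toGL_conjGL, hP]
      group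
    have e2 : (g * embK L D s₀ * g⁻¹).1 1 0 =
        (P.1 * (SpecialLinearGroup.map (n := Fin 2) L.subtype s₀).1 * (P⁻¹).1) 1 0 :=
      congrArg (fun z : GL (Fin 2) F => z.1 1 0) e
    rw [← e2]
    exact h1
  set a := P.1 0 0 with ha
  set b := P.1 0 1 with hb
  set c := P.1 1 0 with hc
  set d := P.1 1 1 with hd
  have hPm : P.1 = !![a, b; c, d] := by
    ext i j; fin_cases i <;> fin_cases j <;> rfl
  have hdet : P.1.det = a * d - b * c := by rw [Matrix.det_fin_two]
  have hδ0 : P.1.det ≠ 0 := P.det.ne_zero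
  set δ := P.1.det with hδ
  have hinv : (P⁻¹).1 = δ⁻¹ • !![d, -b; -c, a] := sub_inv P
  have hU := key (uu 1)
  have hLL := key (ll 1)
  have e1 : ((1 : L) : F) = 1 := rfl
  rw [map_uu, hPm, hinv, e1, sub_matU hdet hδ0] at hU
  rw [sub_map_ll, hPm, hinv, e1, sub_matL hdet hδ0] at hLL
  have hc0 : c = 0 := by
    have h1 : -(c ^ 2 / δ) = 0 := hU
    have h2 : c ^ 2 / δ = 0 := neg_eq_zero.1 h1
    rcases div_eq_zero_iff.1 h2 with h3 | h3
    · exact pow_eq_zero_iff (two_ne_zero) |>.1 h3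
    · exact (hδ0 h3).elim
  have hd0 : d = 0 := by
    have h2 : d ^ 2 / δ = 0 := hLL
    rcases div_eq_zero_iff.1 h2 with h3 | h3
    · exact pow_eq_zero_iff (two_ne_zero) |>.1 h3
    · exact (hδ0 h3).elim
  apply hδ0
  rw [hdet, hc0, hd0]
  ring


theorem ovs_tor [Fintype F] (h2 : (2 : F) ≠ 0) {L : Subfield F} {D : GL (Fin 2) F}
    {H : Subgroup (SpecialLinearGroup (Fin 2) F)} (hNH : pre (subM L D) ≤ H) : ¬ Tor H := by
  intro h
  have hmem : ∀ s : SpecialLinearGroup (Fin 2) L, embK L D s ∈ H := fun s =>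
    hNH (InSub.embK_mem (InSub_subM L D) (center_le_pre _) s)
  have h1 := Tor.sq_comm h _ (hmem (uu 1)) _ (hmem (ll 1))
  rw [← map_pow, ← map_pow] at h1
  have h3 : (uu (1 : L)) ^ 2 * (ll (1 : L)) ^ 2 = (ll (1 : L)) ^ 2 * (uu (1 : L)) ^ 2 := by
    apply embK_injective L D
    rw [map_mul, map_mul]
    exact h1.eq
  have h4 := congrArg (fun z : SpecialLinearGroup (Fin 2) L => z.1 0 0) h3
  simp only [pow_two, mul_00, mul_01, mul_10, mul_11, uu, ll, mk2_00, mk2_01, mk2_10, mk2_11] at h4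
  have h5 : (4 : L) = 0 := by linear_combination h4
  have h6 : (4 : F) = 0 := by
    have h8 : (4 : F) = L.subtype (4 : L) := (map_ofNat L.subtype 4).symm
    rw [h8, h5, map_zero]
  apply h2
  have h7 : (2 : F) * 2 = 0 := by linear_combination h6
  exact (mul_self_eq_zero.1 h7)


end Cfsg.Agent.Lib.Helper7.PGLMax
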