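import Cfsg.Agent.Lib.Helper7.PGL.ASM
import Cfsg.Agent.Lib.Helper7.PSL2TorMax
import Cfsg.Agent.Lib.Helper7.PSL2Emb
import Cfsg.Agent.Lib.Helper7.PGL90.OVA

set_option autoImplicit false
set_option linter.unusedSimpArgs false
set_option linter.unusedSectionVars false
set_option linter.unusedVariables false

/-! Ladder PGL90 (statement S5890), rung OVS2. -/

namespace Cfsg.Agent.Lib.Helper7.PGLMax

open Matrix MatrixGroups Subgroup Cfsg.Agent.Lib.Helper46 Cfsg.Agent.Lib.Helper18.SL2
open Cfsg.Agent.Lib.Helper7 Cfsg.Agent.Lib.Helper7.PMax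

variable {F : Type*} [Field F]

theorem ovs2_nine (j : ℕ) : (9 ^ j % 16 = 1 ∨ 9 ^ j % 16 = 9) ∧ (9 ^ j % 5 = 1 ∨ 9 ^ j % 5 = 4) := by
  induction j with
  | zero => simp
  | succ n ih =>
    rw [pow_succ]
    omega

theorem ovs_exc [Fintype F] (hodd : Odd (Fintype.card F))
    {L : Subfield F} {l : ℕ} (hl : l.Prime) (hlo : Odd l) (hL : Nat.card L ^ l = Fintype.card F)
    (D : GL (Fin 2) F)
    {H : Subgroup (SpecialLinearGroup (Fin 2) F)} (hNH : pre (subM L D) ≤ H) (hE : Exc H) :
    H ≤ pre (subM L D) := by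
  have h2 : (2 : F) ≠ 0 := PSub.two_ne_zero_of_odd_card hodd
  have hz : zc F = 2 := zc_of_two_ne h2
  have heq : Nat.card H ≤ Nat.card (pre (subM L D)) → H ≤ pre (subM L D) := fun hc =>
    (Subgroup.eq_of_le_of_card_ge hNH hc).ge
  have hdvd : Nat.card H ∣ Fintype.card F * (Fintype.card F ^ 2 - 1) := by
    rw [← card_SL2]; exact Subgroup.card_subgroup_dvd_card H
  have : Fintype L := Fintype.ofFinite L
  have hR : (embK L D).range ≤ pre (subM L D) := by
    rintro _ ⟨s, rfl⟩
    exact InSub.embK_mem (InSub_subM L D) (center_le_pre _) s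
  have hRcard : Nat.card (embK L D).range = Nat.card L * (Nat.card L ^ 2 - 1) := by
    rw [← Nat.card_congr (MonoidHom.ofInjective (embK_injective L D)).toEquiv, card_SL2,
      Nat.card_eq_fintype_card]
  have h1 : Nat.card L * (Nat.card L ^ 2 - 1) ≤ Nat.card (pre (subM L D)) := by
    rw [← hRcard]; exact Subgroup.card_le_of_le hR
  have h1' : Nat.card L * (Nat.card L ^ 2 - 1) ∣ Nat.card H := by
    rw [← hRcard]; exact Subgroup.card_dvd_of_le (hR.trans hNH)
  have hHcard : Nat.card H = 24 ∨ Nat.card H = 48 ∨ Nat.card H = 120 := by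
    rcases hE with ⟨h, -⟩ | ⟨h, -⟩ | ⟨h, -⟩ <;> rw [hz] at h <;> omega
  have hkodd : Odd (Nat.card L) := by
    rw [← hL] at hodd
    exact (Nat.odd_pow_iff hl.ne_zero).1 hodd
  have hk2 : 2 ≤ Nat.card L := by
    rw [Nat.card_eq_fintype_card]
    exact Fintype.one_lt_card
  have hF1 : 1 ≤ Fintype.card F := Fintype.card_pos
  generalize Nat.card (pre (subM L D)) = n at *
  generalize Nat.card H = m at *
  generalize Nat.card L = k at *
  generalize Fintype.card F = q at *
  have hk5 : k ≤ 5 := by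
    by_contra hcon
    obtain ⟨t, ht⟩ := hkodd
    have h7 : 7 ≤ k := by omega
    have h49 : 49 ≤ k ^ 2 := by nlinarith
    have h8 : 7 * 48 ≤ k * (k ^ 2 - 1) := Nat.mul_le_mul h7 (by omega)
    have h9 := Nat.le_of_dvd (by omega) h1'
    omega
  have hk : k = 3 ∨ k = 5 := by
    obtain ⟨t, ht⟩ := hkodd
    omega
  rcases hk with rfl | rfl
  · norm_num at h1 h1'
    obtain ⟨j, rfl⟩ := hlo
    have hq : q = 3 * 9 ^ j := by
      rw [← hL, pow_succ, pow_mul]; norm_num [mul_comm]
    obtain ⟨h16, h5⟩ := ovs2_nine j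
    rcases hHcard with rfl | rfl | rfl
    · exact heq h1
    · exfalso
      have h6 := ova_mod hF1 (Dvd.dvd.trans (by norm_num : 16 ∣ 48) hdvd)
      have hr : q % 16 = 3 ∨ q % 16 = 11 := by omega
      rcases hr with h | h <;> rw [h] at h6 <;> norm_num at h6
    · exfalso
      have h6 := ova_mod hF1 (Dvd.dvd.trans (by norm_num : 5 ∣ 120) hdvd)
      have hr : q % 5 = 3 ∨ q % 5 = 2 := by omega
      rcases hr with h | h <;> rw [h] at h6 <;> norm_num at h6
  · norm_num at h1 h1'
    apply heq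
    rcases hHcard with rfl | rfl | rfl
    · omega
    · omega
    · exact h1


end Cfsg.Agent.Lib.Helper7.PGLMax
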