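import Cfsg.Agent.Lib.Helper7.PGL.ASM
import Cfsg.Agent.Lib.Helper7.PSL2TorMax
import Cfsg.Agent.Lib.Helper7.PSL2Emb
import Cfsg.Agent.Lib.Helper7.PSL2OddA
import Cfsg.Agent.Lib.Helper7.PGL90.OVI

set_option autoImplicit false
set_option linter.unusedSimpArgs false
set_option linter.unusedSectionVars false
set_option linter.unusedVariables false

/-! Ladder PGL90 (statement S5890), rung OVS3. -/

namespace Cfsg.Agent.Lib.Helper7.PGLMax

open Matrix MatrixGroups Subgroup Cfsg.Agent.Lib.Helper46 Cfsg.Agent.Lib.Helper18.SL2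
open Cfsg.Agent.Lib.Helper7 Cfsg.Agent.Lib.Helper7.PMax

variable {F : Type*} [Field F]

theorem ovs3_tr (L : Subfield F) (D : GL (Fin 2) F) (c : L) :
    tr (embK L D (uu 1 * ll c)) = 2 + (c : F) := by
  show tr (conjGL D (SpecialLinearGroup.map (n := Fin 2) L.subtype (uu 1 * ll c))) = _
  rw [tr_conjGL]
  simp only [tr, SpecialLinearGroup.map_apply_coe, RingHom.mapMatrix_apply, Matrix.map_apply,
    mul_00, mul_11, uu, ll, mk2_00, mk2_01, mk2_10, mk2_11]
  simp
  ring

theorem ovs3_le (h2 : (2 : F) ≠ 0) {L K : Subfield F} {D D' : GL (Fin 2) F}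
    {H : Subgroup (SpecialLinearGroup (Fin 2) F)} (hNH : pre (subM L D) ≤ H)
    (hIn : InSub K D' H) : L ≤ K := by
  intro c hc
  have hmem : ∀ s : SpecialLinearGroup (Fin 2) L, embK L D s ∈ H := fun s =>
    hNH (InSub.embK_mem (InSub_subM L D) (center_le_pre _) s)
  have h1 := InSub.tr_sq_mem hIn (hmem (uu 1 * ll ⟨c, hc⟩))
  have h3 := InSub.tr_sq_mem hIn (hmem (uu 1 * ll (-⟨c, hc⟩)))
  rw [ovs3_tr] at h1 h3
  have h4 : (8 : F) * c ∈ K := by
    have := K.sub_mem h1 h3
    have e : (2 + ((⟨c, hc⟩ : L) : F)) ^ 2 - (2 + ((-⟨c, hc⟩ : L) : F)) ^ 2 = 8 * c := by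
      push_cast
      ring
    rwa [e] at this
  have h8 : (8 : F) ∈ K := by exact_mod_cast natCast_mem K 8
  have h80 : (8 : F) ≠ 0 := by
    have : (8 : F) = 2 ^ 3 := by norm_num
    rw [this]
    exact pow_ne_zero 3 h2
  have := K.mul_mem (K.inv_mem h8) h4
  rwa [inv_mul_cancel_left₀ h80] at this

theorem ovs3_card [Fintype F] {L K : Subfield F} (hLK : L ≤ K) :
    ∃ j : ℕ, Nat.card K = Nat.card L ^ j := by
  have : Fintype K := Fintype.ofFinite K
  have h := card_eq_pow (F := K) (L.comap K.subtype)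
  refine ⟨Module.finrank (L.comap K.subtype) K, ?_⟩
  rw [Nat.card_eq_fintype_card, h]
  congr 1
  exact Nat.card_congr
    { toFun := fun x => ⟨x.1.1, x.2⟩
      invFun := fun y => ⟨⟨y.1, hLK y.2⟩, y.2⟩
      left_inv := fun x => rfl
      right_inv := fun y => rfl }

theorem ovs_insub [Fintype F] (hodd : Odd (Fintype.card F))
    {L : Subfield F} {l : ℕ} (hl : l.Prime) (hL : Nat.card L ^ l = Fintype.card F)
    (D : GL (Fin 2) F)
    {H : Subgroup (SpecialLinearGroup (Fin 2) F)} (hNH : pre (subM L D) ≤ H) (hH : H ≠ ⊤)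
    {K : Subfield F} {D' : GL (Fin 2) F} (hIn : InSub K D' H) :
    H ≤ pre (subM L D) := by
  have h2 : (2 : F) ≠ 0 := PSub.two_ne_zero_of_odd_card hodd
  have hZH : center (SpecialLinearGroup (Fin 2) F) ≤ H := (center_le_pre _).trans hNH
  have hLK : L ≤ K := ovs3_le h2 hNH hIn
  obtain ⟨hr, -, -⟩ := ov_insub hZH hIn hH
  have hq := card_eq_pow (F := F) K
  obtain ⟨j, hj⟩ := ovs3_card hLK
  have hk2 : 2 ≤ Nat.card L := by
    have := Fintype.ofFinite L
    rw [Nat.card_eq_fintype_card]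
    exact Fintype.one_lt_card
  have hjr : j * Module.finrank K F = l := by
    rw [hj, ← pow_mul, ← hL] at hq
    exact (Nat.pow_right_injective hk2 hq).symm
  have hj1 : j = 1 := by
    have hdvd : Module.finrank K F ∣ l := ⟨j, by rw [← hjr, mul_comm]⟩
    rcases (Nat.dvd_prime hl).1 hdvd with h | h
    · omega
    · rw [h] at hjr
      have hlpos := hl.pos
      exact Nat.eq_of_mul_eq_mul_right hlpos (by rw [hjr, one_mul])
  rw [hj1, pow_one] at hj
  have hKL : K = L := by
    apply SetLike.coe_injective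
    symm
    apply Set.eq_of_subset_of_ncard_le hLK
    rw [← Nat.card_coe_set_eq, ← Nat.card_coe_set_eq]
    exact hj.le
  subst hKL
  have h3 : H ≤ pre (subM K D') := InSub.le_subM le_rfl hIn
  obtain ⟨f⟩ := subM_equiv_subH K D
  obtain ⟨f'⟩ := subM_equiv_subH K D'
  have h4 : Nat.card (pre (subM K D')) = Nat.card (pre (subM K D)) := by
    rw [card_pre, card_pre, Nat.card_congr f.toEquiv, Nat.card_congr f'.toEquiv]
  exact (Subgroup.eq_of_le_of_card_ge hNH (by
    rw [← h4]; exact Subgroup.card_le_of_le h3)).ge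


end Cfsg.Agent.Lib.Helper7.PGLMax
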