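import Cfsg.Agent.Lib.Helper7.PGL.ASM
import Cfsg.Agent.Lib.Helper7.PSL2TorMax

set_option autoImplicit false
set_option linter.unusedSimpArgs false
set_option linter.unusedSectionVars false
set_option linter.unusedVariables false

/-! Ladder PGL90 (statement S5890), rung OVTC. -/

namespace Cfsg.Agent.Lib.Helper7.PGLMax

open Matrix MatrixGroups Subgroup Cfsg.Agent.Lib.Helper46 Cfsg.Agent.Lib.Helper18.SL2
open Cfsg.Agent.Lib.Helper7 Cfsg.Agent.Lib.Helper7.PMax

variable {F : Type*} [Field F]

theorem ovtc_center {x c : SpecialLinearGroup (Fin 2) F} (hs : tr x ^ 2 ≠ 4)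
    (hc : c * x = x * c) (ht : tr c ^ 2 = 4) : c ∈ center (SpecialLinearGroup (Fin 2) F) := by
  have hxc : x ∉ center (SpecialLinearGroup (Fin 2) F) := fun h => hs (tr_sq_of_mem_center x h)
  obtain ⟨α, β, a00, a01, a10, a11⟩ := commutant x c hxc hc
  have hdx := det2 x
  have hdc := det2 c
  have key : tr c ^ 2 - 4 = β ^ 2 * (tr x ^ 2 - 4) := by
    rw [a00, a01, a10, a11] at hdc
    simp only [tr]
    rw [a00, a11]
    linear_combination 4 * hdc - 4 * β ^ 2 * hdx
  rw [ht, sub_self] at key
  have hβ : β = 0 := by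
    rcases mul_eq_zero.1 key.symm with h | h
    · exact pow_eq_zero_iff (two_ne_zero) |>.1 h
    · exact (hs (by linear_combination h)).elim
  rw [mem_center_iff2, a00, a01, a10, a11, hβ]
  simp

theorem ovtc_fibre {x c c₀ : SpecialLinearGroup (Fin 2) F} (hs : tr x ^ 2 ≠ 4)
    (hc : Commute c x) (hc₀ : Commute c₀ x) (ht : tr c ^ 2 = tr c₀ ^ 2) :
    c = c₀ ∨ c = c₀⁻¹ ∨ c = negOne * c₀ ∨ c = negOne * c₀⁻¹ := by
  have hxc : x ∉ center (SpecialLinearGroup (Fin 2) F) := fun h => hs (tr_sq_of_mem_center x h)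
  have hcc : Commute c c₀ := commTrans_SL2 x c c₀ hxc hc hc₀
  have hnn : (negOne : SpecialLinearGroup (Fin 2) F) * negOne = 1 :=
    sq_eq_one_of_mem_center negOne negOne_mem_center
  have hpm : tr c = tr c₀ ∨ tr c = - tr c₀ := sq_eq_sq_iff_eq_or_eq_neg.1 ht
  by_cases h4 : tr c₀ ^ 2 = 4
  · have z₀ := ovtc_center hs hc₀.eq h4
    have z := ovtc_center hs hc.eq (ht.trans h4)
    rcases Cfsg.Agent.Lib.Helper46.eq_one_or_negOne_of_mem_center c z with rfl | rfl <;>
      rcases Cfsg.Agent.Lib.Helper46.eq_one_or_negOne_of_mem_center c₀ z₀ with rfl | rfl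
    · left; rfl
    · right; right; left; exact hnn.symm
    · right; right; left; rw [mul_one]
    · left; rfl
  · rcases hpm with h | h
    · rcases same_or_inv' c₀ c h4 hcc.eq h with h | h
      · left; exact h
      · right; left; exact h
    · have h5 : tr (negOne * c) = tr c₀ := by rw [tr_negOne_mul, h, neg_neg]
      have hcomm : (negOne * c) * c₀ = c₀ * (negOne * c) := by
        have h6 : c₀ * negOne = negOne * c₀ := (mem_center_iff.1 negOne_mem_center c₀)
        rw [mul_assoc, hcc.eq, ← mul_assoc, ← mul_assoc, h6]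
      have h7 : c = negOne * (negOne * c) := by rw [← mul_assoc, hnn, one_mul]
      rcases same_or_inv' c₀ (negOne * c) h4 hcomm h5 with h | h
      · right; right; left; rw [← h]; exact h7
      · right; right; right; rw [← h]; exact h7

theorem ovt_count [Fintype F] {x : SpecialLinearGroup (Fin 2) F} (hs : tr x ^ 2 ≠ 4)
    {K : Subfield F}
    (hK : ∀ c ∈ centralizer ({x} : Set (SpecialLinearGroup (Fin 2) F)), tr c ^ 2 ∈ K) :
    Nat.card (centralizer ({x} : Set (SpecialLinearGroup (Fin 2) F))) ≤ 4 * Nat.card K := by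
  classical
  set C := centralizer ({x} : Set (SpecialLinearGroup (Fin 2) F)) with hC
  have : Fintype C := Fintype.ofFinite _
  have : Fintype K := Fintype.ofFinite _
  rw [Nat.card_eq_fintype_card, Nat.card_eq_fintype_card]
  let f : C → K := fun c => ⟨tr c.1 ^ 2, hK c.1 c.2⟩
  have hcomm : ∀ c : C, Commute c.1 x := by
    intro c
    have := mem_centralizer_iff.1 c.2 x (Set.mem_singleton x)
    exact this.symm
  let n : C := ⟨negOne, Subgroup.center_le_centralizer _ negOne_mem_center⟩
  have h := Finset.card_le_mul_card_image (f := f) (Finset.univ : Finset C) 4 (by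
    intro a ha
    obtain ⟨c₀, -, rfl⟩ := Finset.mem_image.1 ha
    have hsub : (Finset.univ.filter fun c : C => f c = f c₀) ⊆
        {c₀, c₀⁻¹, n * c₀, n * c₀⁻¹} := by
      intro c hc
      have hc' : f c = f c₀ := (Finset.mem_filter.1 hc).2
      have ht : tr c.1 ^ 2 = tr c₀.1 ^ 2 := congrArg Subtype.val hc'
      simp only [Finset.mem_insert, Finset.mem_singleton]
      rcases ovtc_fibre hs (hcomm c) (hcomm c₀) ht with h | h | h | h
      · left; exact Subtype.ext h
      · right; left; exact Subtype.ext h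
      · right; right; left; exact Subtype.ext h
      · right; right; right; exact Subtype.ext h
    exact (Finset.card_le_card hsub).trans Finset.card_le_four)
  calc Fintype.card C = (Finset.univ : Finset C).card := rfl
    _ ≤ 4 * (Finset.univ.image f).card := h
    _ ≤ 4 * Fintype.card K := Nat.mul_le_mul_left 4 (Finset.card_le_univ _)


end Cfsg.Agent.Lib.Helper7.PGLMax
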