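import Cfsg.Agent.Lib.Helper7.PGL.ASM
import Cfsg.Agent.Lib.Helper7.PSL2TorMax
import Cfsg.Agent.Lib.Helper7.PGL90.OVI
import Cfsg.Agent.Lib.Helper7.PGL90.OVTC

set_option autoImplicit false
set_option linter.unusedSimpArgs false
set_option linter.unusedSectionVars false
set_option linter.unusedVariables false

/-! Ladder PGL90 (statement S5890), rung OVT. -/

namespace Cfsg.Agent.Lib.Helper7.PGLMax

open Matrix MatrixGroups Subgroup Cfsg.Agent.Lib.Helper46 Cfsg.Agent.Lib.Helper18.SL2
open Cfsg.Agent.Lib.Helper7 Cfsg.Agent.Lib.Helper7.PMax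

variable {F : Type*} [Field F]

theorem ovt [Fintype F] (hodd : Odd (Fintype.card F)) (h3 : 3 < Fintype.card F)
    (h7 : Fintype.card F ≠ 7) (h9 : Fintype.card F ≠ 9) (h11 : Fintype.card F ≠ 11)
    (p : ℕ) [Fact p.Prime] [CharP F p]
    {x a : SpecialLinearGroup (Fin 2) F} (hs : tr x ^ 2 ≠ 4) (hax : Commute a x) (ha4 : a ^ 4 ≠ 1)
    {H : Subgroup (SpecialLinearGroup (Fin 2) F)} (hNH : torN x ≤ H) (hH : H ≠ ⊤) :
    H ≤ torN x := by
  by_contra hnle
  have h2 : (2 : F) ≠ 0 := PSub.two_ne_zero_of_odd_card hodd
  have hZH : center (SpecialLinearGroup (Fin 2) F) ≤ H := (center_le_torN x).trans hNH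
  have hlt : img (torN x) < img H := by
    rw [lt_iff_le_not_ge]
    constructor
    · rw [← pre_le_pre, pre_img (center_le_torN x), pre_img hZH]; exact hNH
    · intro hle
      apply hnle
      rw [← pre_le_pre, pre_img (center_le_torN x), pre_img hZH] at hle
      exact hle
  have hCcard := card_centralizer_ss hs
  have hc : Fintype.card F + 1 <
      2 * Nat.card (centralizer ({x} : Set (SpecialLinearGroup (Fin 2) F))) := by
    rcases hCcard with h | h <;> rw [h] <;> omega
  have haC : a ∈ centralizer ({x} : Set (SpecialLinearGroup (Fin 2) F)) := by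
    rw [mem_centralizer_iff]
    intro y hy
    rw [Set.mem_singleton_iff] at hy
    rw [hy]; exact hax.eq.symm
  have hapow : a ^ Nat.card (centralizer ({x} : Set (SpecialLinearGroup (Fin 2) F))) = 1 := by
    have h6 : (⟨a, haC⟩ : centralizer ({x} : Set (SpecialLinearGroup (Fin 2) F))) ^
        Nat.card (centralizer ({x} : Set (SpecialLinearGroup (Fin 2) F))) = 1 := pow_card_eq_one'
    exact congrArg Subtype.val h6
  have hC4 : Nat.card (centralizer ({x} : Set (SpecialLinearGroup (Fin 2) F))) ≠ 4 := by
    intro h4
    rw [h4] at hapow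
    exact ha4 hapow
  have hne : Nat.card H ≠ Fintype.card F * (Fintype.card F ^ 2 - 1) := by
    intro hc
    apply hH
    apply Subgroup.eq_top_of_card_eq
    rw [hc, card_SL2]
  have hdvd : Nat.card H ∣ Fintype.card F * (Fintype.card F ^ 2 - 1) := by
    rw [← card_SL2]; exact Subgroup.card_subgroup_dvd_card H
  rcases torN_overgroup p hs (by omega) hc (img H) hlt with ⟨-, h⟩ | ⟨K, D, hIn, hK⟩
  · rw [pre_img hZH] at h
    generalize Nat.card H = n at *
    generalize Nat.card (centralizer ({x} : Set (SpecialLinearGroup (Fin 2) F))) = c at *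
    generalize Fintype.card F = q at *
    have hq : q = 5 := by omega
    subst hq
    have hn : n = 48 ∨ n = 120 := by omega
    rcases hn with rfl | rfl
    · norm_num at hdvd
    · norm_num at hne
  · rw [pre_img hZH] at hIn
    obtain ⟨hr, hk2, -⟩ := ov_insub hZH hIn hH
    have hcount := ovt_count hs (K := K)
      (fun c hc => InSub.tr_sq_mem hIn (hNH (centralizer_le_torN x hc)))
    have hq := card_eq_pow (F := F) K
    generalize Module.finrank K F = r at *
    generalize Nat.card K = k at *
    generalize Nat.card (centralizer ({x} : Set (SpecialLinearGroup (Fin 2) F))) = c at *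
    generalize Fintype.card F = q at *
    have hk4 : k ≤ 4 := by
      by_contra hcon
      have h5 : 5 ≤ k := by omega
      have h6 : 5 * k ≤ k ^ 2 := by nlinarith
      omega
    have hr3 : r = 2 ∨ k ^ 3 ≤ q := by
      rcases Nat.lt_or_ge 2 r with h | h
      · right
        rw [hq]
        exact Nat.pow_le_pow_right (by omega) h
      · left; omega
    obtain ⟨t, ht⟩ := hodd
    interval_cases k
    · rcases hr3 with rfl | h
      · norm_num at hq; omega
      · norm_num at h; omega
    · rcases hr3 with rfl | h
      · norm_num at hq; omega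
      · norm_num at h; omega


end Cfsg.Agent.Lib.Helper7.PGLMax
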