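import Cfsg.Agent.Lib.Helper7.PGL.ASM
import Cfsg.Agent.Lib.Helper7.PSL2TorMax

set_option autoImplicit false
set_option linter.unusedSimpArgs false
set_option linter.unusedSectionVars false
set_option linter.unusedVariables false

/-! Ladder PGL90 (statement S5890), rung STRUCT. -/

namespace Cfsg.Agent.Lib.Helper7.PGLMax

open Matrix MatrixGroups Subgroup Cfsg.Agent.Lib.Helper46 Cfsg.Agent.Lib.Helper18.SL2
open Cfsg.Agent.Lib.Helper7 Cfsg.Agent.Lib.Helper7.PMax

variable {F : Type*} [Field F]

theorem struct [Fintype F] (hodd : Odd (Fintype.card F)) (h3 : 3 < Fintype.card F)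
    {M : Subgroup (ProjGenLinGroup (Fin 2) F)} (h : Ctx M) :
    Nat.card (G0 M) = Fintype.card F * (Fintype.card F - 1) ∨
    (∃ x a : SpecialLinearGroup (Fin 2) F, tr x ^ 2 ≠ 4 ∧ G0 M = torN x ∧ Commute a x ∧ a ^ 4 ≠ 1) ∨
    ((Fintype.card F).Prime ∧ (Fintype.card F % 8 = 3 ∨ Fintype.card F % 8 = 5) ∧
      Nat.card (G0 M) = 24 ∧ Nonempty (img (G0 M) ≃* alternatingGroup (Fin 4))) ∨
    (∃ (K : Subfield F) (D : GL (Fin 2) F), K ≠ ⊤ ∧ M ≤ YD K D) := by
  have h2 : (2 : F) ≠ 0 := PSub.two_ne_zero_of_odd_card hodd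
  obtain ⟨p, hp⟩ := CharP.exists F
  have : Fact p.Prime := ⟨CharP.char_is_prime F p⟩
  have hZ := center_le_G0 M
  have hcard := card_eq hodd h
  have hzc : zc F = 2 := zc_of_two_ne h2
  have hcz : Nat.card (center (SpecialLinearGroup (Fin 2) F)) = 2 := hzc
  obtain ⟨e'⟩ := map_G0_equiv M
  have torH : Tor (G0 M) → ∃ x a : SpecialLinearGroup (Fin 2) F, tr x ^ 2 ≠ 4 ∧
      G0 M = torN x ∧ Commute a x ∧ a ^ 4 ≠ 1 := by
    rintro ⟨x, hx, hs, hall⟩
    by_cases hex : ∃ a ∈ G0 M, Commute a x ∧ a ^ 4 ≠ 1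
    · obtain ⟨a, ha, hax, ha4⟩ := hex
      obtain ⟨hG, hinv, w, hw, hwa⟩ := tor_case hodd h3 h hx hs hall ha hax ha4
      exact ⟨x, a, hs, hG, hax, ha4⟩
    · push Not at hex
      exfalso
      apply small_case hodd h3 h
      intro s hs'
      rcases hall s hs' with h1 | h1
      · exact hex s hs' h1
      · exact tor_pow_four_of_tr (tr_eq_zero_of_inverts hs h1)
  by_cases hss : ∀ x ∈ G0 M, x ∉ center (SpecialLinearGroup (Fin 2) F) → tr x ^ 2 ≠ 4
  · rcases pprime_analysis (G0 M) hZ hss with hc | ht | h12 | h24 | h60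
    · exfalso
      apply small_case hodd h3 h
      intro s hs'
      rw [hc] at hs'
      have h6 : (⟨s, hs'⟩ : center (SpecialLinearGroup (Fin 2) F)) ^
          Nat.card (center (SpecialLinearGroup (Fin 2) F)) = 1 := pow_card_eq_one'
      rw [hcz] at h6
      have h7 : s ^ 2 = 1 := congrArg Subtype.val h6
      rw [show 4 = 2 * 2 from rfl, pow_mul, h7, one_pow]
    · exact Or.inr (Or.inl (torH (Tor_of_card ht)))
    · obtain ⟨e⟩ := exc12 (M := img (G0 M)) (by rw [pre_img hZ]; exact h12.1)
        (by rw [pre_img hZ]; exact h12.2)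
      obtain ⟨h8, D, hD⟩ := a4_case p hodd h3 h e
      by_cases hbot : (⊥ : Subfield F) = ⊤
      · right; right; left
        have hqp : Fintype.card F = p := by
          have h9 := Subfield.card_bot F p
          rw [hbot] at h9
          rw [← h9, ← Nat.card_eq_fintype_card]
          exact (Nat.card_congr (Subfield.topEquiv (K := F)).toEquiv).symm
        exact ⟨hqp ▸ Fact.out, h8, by rw [h12.1, hzc], ⟨e⟩⟩
      · right; right; right
        exact ⟨⊥, D, hbot, hD⟩
    · obtain ⟨e⟩ := exc24 (M := img (G0 M)) (by rw [pre_img hZ]; exact h24.1)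
        (by rw [pre_img hZ]; exact h24.2)
      exact (no_48 hodd (by rw [hcard, h24.1, hzc]) (map_G0_le M) (e'.trans e)).elim
    · obtain ⟨e⟩ := exc60 (M := img (G0 M)) (by rw [pre_img hZ]; exact h60.1)
        (by rw [pre_img hZ]; exact h60.2)
      have hp5 : p = 5 := char_five_of_120 hodd p (by rw [hcard, h60.1, hzc]) (map_G0_le M)
        (e'.trans e)
      exfalso
      have hdvd : p ∣ Nat.card (G0 M) := by rw [h60.1, hzc, hp5]; norm_num
      obtain ⟨y, hy⟩ := exists_prime_orderOf_dvd_card' p hdvd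
      have hy' : orderOf (y : SpecialLinearGroup (Fin 2) F) = p := by
        rw [Subgroup.orderOf_coe]; exact hy
      have ht := tr_eq_two_of_orderOf p hy'
      apply hss y y.2 ?_ (by rw [ht]; norm_num)
      intro hyc
      have h6 : (⟨y.1, hyc⟩ : center (SpecialLinearGroup (Fin 2) F)) ^
          Nat.card (center (SpecialLinearGroup (Fin 2) F)) = 1 := pow_card_eq_one'
      rw [hcz] at h6
      have h7 : (y : SpecialLinearGroup (Fin 2) F) ^ 2 = 1 := congrArg Subtype.val h6
      have h8 := orderOf_dvd_of_pow_eq_one h7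
      rw [hy', hp5] at h8
      norm_num at h8
  · push Not at hss
    obtain ⟨x, hxG, hxc, hxt⟩ := hss
    obtain ⟨u, huG, huc, hut⟩ : ∃ u ∈ G0 M, u ∉ center (SpecialLinearGroup (Fin 2) F) ∧ tr u = 2 := by
      have h' : (tr x - 2) * (tr x + 2) = 0 := by linear_combination hxt
      rcases mul_eq_zero.1 h' with h1 | h1
      · exact ⟨x, hxG, hxc, by linear_combination h1⟩
      · refine ⟨negOne * x, (G0 M).mul_mem (hZ negOne_mem_center) hxG, ?_, ?_⟩
        · intro h
          apply hxc
          have := (center _).mul_mem ((center _).inv_mem negOne_mem_center) h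
          simpa using this
        · rw [tr_negOne_mul]; linear_combination -h1
    rcases dickson' p (G0 M) hZ huG huc hut with hB | hT | ⟨h60, h30⟩ | ⟨K, D, hIn, hK3⟩
    · left; exact bor_case hodd h3 h hB huG huc hut
    · exact Or.inr (Or.inl (torH hT))
    · obtain ⟨e⟩ := exc60 (M := img (G0 M)) (by rw [pre_img hZ]; exact h60.1)
        (by rw [pre_img hZ]; exact h60.2)
      have hp5 : p = 5 := char_five_of_120 hodd p (by rw [hcard, h60.1, hzc]) (map_G0_le M)
        (e'.trans e)
      exfalso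
      subst hp5
      have h9 : ((3 : ℕ) : F) = 0 := by push_cast; exact h30
      rw [CharP.cast_eq_zero_iff F 5] at h9
      norm_num at h9
    · right; right; right
      have hle := le_YD_of_insub h2 hIn
      have hK : K ≠ ⊤ := by
        rintro rfl
        have hIn' : InSub ⊤ D (pre (img (G0 M))) := by rw [pre_img hZ]; exact hIn
        have h9 := (InSub.card_dvd hIn').2 (by
          rw [← Nat.card_eq_fintype_card]
          exact Nat.card_congr (Subfield.topEquiv (K := F)).toEquiv)
        apply G0_ne_top h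
        rw [← pre_img hZ, h9, pre_top]
      exact ⟨K, D, hK, hle⟩


theorem maxsub' [Fintype F] (hodd : Odd (Fintype.card F))
    {M : Subgroup (ProjGenLinGroup (Fin 2) F)} (h : Ctx M) {K : Subfield F} (hK : K ≠ ⊤)
    (D : GL (Fin 2) F) (hle : M ≤ YD K D) :
    ∃ (L : Subfield F) (l : ℕ), l.Prime ∧ Odd l ∧ Nat.card L ^ l = Fintype.card F ∧
      M = YD L D := by
  obtain ⟨L, l, hl, hKL, hL⟩ := exists_prime_subfield K hK
  rw [Nat.card_eq_fintype_card (α := F)] at hL
  have h1 : M ≤ YD L D := fun x hx => range_map_mono hKL (hle hx)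
  have hne : YD L D ≠ ⊤ := by
    intro htop
    apply subM_ne_top hl.two_le hL D
    have : subM L D = (YD L D).comap ProjectiveSpecialLinearGroup.toPGL := rfl
    rw [this, htop, comap_top]
  have h3 : M = YD L D := by
    by_contra hne'
    exact hne (h.coatom.2 _ (lt_of_le_of_ne h1 hne'))
  have hlodd : Odd l := by
    rcases hl.eq_two_or_odd' with rfl | ho
    · exfalso
      obtain ⟨t, htM, htL⟩ := maxsub_exists_not_mem hodd h
      apply htL
      obtain ⟨Δ, rfl⟩ := ProjGenLinGroup.mk_surjective t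
      have ht := h1 htM
      rw [mem_YD, ← map_inv, ← map_mul, ← map_mul] at ht
      obtain ⟨x, hx⟩ := ht
      obtain ⟨g₀, rfl⟩ := ProjGenLinGroup.mk_surjective x
      rw [ProjGenLinGroup.map_mk] at hx
      have h5 : ProjGenLinGroup.mk (D * Δ * D⁻¹) ∈ (ProjGenLinGroup.mk.comp
          (SpecialLinearGroup.toGL (n := Fin 2) (R := F))).range := by
        rw [← hx, mk_mem_range_iff_isSquare]
        have : ((GeneralLinearGroup.map (n := Fin 2) L.subtype g₀).det : F) =
            ((g₀.det : L) : F) := by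
          have := (L.subtype).map_det g₀.1
          exact this.symm
        rw [this]
        exact PSub.isSquare_of_sq hL.symm _
      rw [mk_mem_range_iff_isSquare] at h5 ⊢
      have h6 : ((D * Δ * D⁻¹).det : F) = (Δ.det : F) := by
        rw [map_mul, map_mul, map_inv, mul_comm, ← mul_assoc, inv_mul_cancel, one_mul]
      rwa [h6] at h5
    · exact ho
  exact ⟨L, l, hl, hlodd, hL, h3⟩


end Cfsg.Agent.Lib.Helper7.PGLMax
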