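import Cfsg.Agent.Lib.Helper7.PGL.ASM
import Cfsg.Agent.Lib.Helper7.PSL2TorMax

set_option autoImplicit false
set_option linter.unusedSimpArgs false
set_option linter.unusedSectionVars false
set_option linter.unusedVariables false

/-! Ladder PGL90 (statement S5890), rung TRANS. -/

namespace Cfsg.Agent.Lib.Helper7.PGLMax

open Matrix MatrixGroups Subgroup Cfsg.Agent.Lib.Helper46 Cfsg.Agent.Lib.Helper18.SL2
open Cfsg.Agent.Lib.Helper7 Cfsg.Agent.Lib.Helper7.PMax

variable {F : Type*} [Field F]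

theorem coatom_of_G0 {M : Subgroup (ProjGenLinGroup (Fin 2) F)} (hne : G0 M ≠ ⊤)
    (hmax : ∀ H : Subgroup (SpecialLinearGroup (Fin 2) F), G0 M ≤ H → H ≠ ⊤ → H ≤ G0 M) :
    IsCoatom ((M ⊓ (ProjGenLinGroup.mk.comp
      (SpecialLinearGroup.toGL (n := Fin 2) (R := F))).range).subgroupOf
      (ProjGenLinGroup.mk.comp (SpecialLinearGroup.toGL (n := Fin 2) (R := F))).range) := by
  set τ := (ProjGenLinGroup.mk.comp (SpecialLinearGroup.toGL (n := Fin 2) (R := F))) with hτ
  set L := τ.range with hL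
  constructor
  · intro htop
    rw [Subgroup.subgroupOf_eq_top] at htop
    apply hne
    rw [eq_top_iff]
    intro s _
    exact (htop ⟨s, rfl⟩).1
  · intro B hB
    set H : Subgroup (SpecialLinearGroup (Fin 2) F) := (B.map L.subtype).comap τ with hH
    have hmem : ∀ s : SpecialLinearGroup (Fin 2) F, s ∈ H ↔ (⟨τ s, ⟨s, rfl⟩⟩ : L) ∈ B := by
      intro s
      constructor
      · rintro ⟨b, hb, hbs⟩
        have : b = (⟨τ s, ⟨s, rfl⟩⟩ : L) := Subtype.ext hbs
        rw [← this]; exact hb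
      · intro hb
        exact ⟨_, hb, rfl⟩
    have hle : G0 M ≤ H := by
      intro s hs
      rw [hmem]
      apply hB.le
      rw [Subgroup.mem_subgroupOf]
      exact ⟨hs, ⟨s, rfl⟩⟩
    by_cases hHt : H = ⊤
    · rw [eq_top_iff]
      rintro ⟨_, ⟨s, rfl⟩⟩ _
      rw [← hmem, hHt]
      exact mem_top _
    · exfalso
      have h1 := hmax H hle hHt
      apply hB.not_ge
      rintro ⟨_, ⟨s, rfl⟩⟩ hb
      rw [Subgroup.mem_subgroupOf]
      exact ⟨h1 ((hmem s).2 hb), ⟨s, rfl⟩⟩


theorem coatom_of_even [Fintype F] (heven : ¬ Odd (Fintype.card F))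
    {M : Subgroup (ProjGenLinGroup (Fin 2) F)} (h : Ctx M) :
    IsCoatom ((M ⊓ (ProjGenLinGroup.mk.comp
      (SpecialLinearGroup.toGL (n := Fin 2) (R := F))).range).subgroupOf
      (ProjGenLinGroup.mk.comp (SpecialLinearGroup.toGL (n := Fin 2) (R := F))).range) := by
  set τ := (ProjGenLinGroup.mk.comp (SpecialLinearGroup.toGL (n := Fin 2) (R := F))) with hτ
  set L := τ.range with hL
  have hLtop : L = ⊤ := by
    rw [eq_top_iff]
    intro m _
    obtain ⟨Δ, rfl⟩ := ProjGenLinGroup.mk_surjective m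
    rw [hL, hτ, mk_mem_range_iff_isSquare]
    apply FiniteField.isSquare_of_char_two
    by_contra hc
    exact heven (Nat.odd_iff.2 (FiniteField.odd_card_of_char_ne_two hc))
  constructor
  · intro htop
    rw [Subgroup.subgroupOf_eq_top] at htop
    exact h.notle (htop.trans inf_le_left)
  · intro B hB
    have hle : M ≤ B.map L.subtype := by
      intro m hm
      have hmL : m ∈ L := hLtop ▸ mem_top m
      refine ⟨⟨m, hmL⟩, hB.le ?_, rfl⟩
      rw [Subgroup.mem_subgroupOf]
      exact ⟨hm, hmL⟩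
    rcases eq_or_lt_of_le hle with he | hlt
    · exfalso
      apply hB.not_ge
      intro b hb
      rw [Subgroup.mem_subgroupOf]
      refine ⟨?_, b.2⟩
      rw [he]
      exact ⟨b, hb, rfl⟩
    · have h1 := h.coatom.2 _ hlt
      rw [eq_top_iff]
      intro b _
      have h2 : (b : ProjGenLinGroup (Fin 2) F) ∈ B.map L.subtype := h1 ▸ mem_top _
      obtain ⟨b', hb', hbb⟩ := h2
      have : b' = b := Subtype.ext hbb
      rw [← this]; exact hb'


end Cfsg.Agent.Lib.Helper7.PGLMax
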