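import Cfsg.Agent.Lib.Helper7.PGL.ASM
import Cfsg.Agent.Lib.Helper7.PSL2TorMax
import Cfsg.Agent.Lib.Helper7.PGL90.STRUCT
import Cfsg.Agent.Lib.Helper7.PGL90.TRANS
import Cfsg.Agent.Lib.Helper7.PGL90.OVI
import Cfsg.Agent.Lib.Helper7.PGL90.OVB
import Cfsg.Agent.Lib.Helper7.PGL90.OVT
import Cfsg.Agent.Lib.Helper7.PGL90.OVA
import Cfsg.Agent.Lib.Helper7.PGL90.OVS1
import Cfsg.Agent.Lib.Helper7.PGL90.OVS2
import Cfsg.Agent.Lib.Helper7.PGL90.OVS3

set_option autoImplicit false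
set_option linter.unusedSimpArgs false
set_option linter.unusedSectionVars false
set_option linter.unusedVariables false

/-! Ladder PGL90 (statement S5890), rung ASM. -/

namespace Cfsg.Agent.Lib.Helper7.PGLMax

open Matrix MatrixGroups Subgroup Cfsg.Agent.Lib.Helper46 Cfsg.Agent.Lib.Helper18.SL2
open Cfsg.Agent.Lib.Helper7 Cfsg.Agent.Lib.Helper7.PMax

variable {F : Type*} [Field F]

theorem ovs [Fintype F] (hodd : Odd (Fintype.card F)) (h3 : 3 < Fintype.card F)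
    (p : ℕ) [Fact p.Prime] [CharP F p]
    {L : Subfield F} {l : ℕ} (hl : l.Prime) (hlo : Odd l) (hL : Nat.card L ^ l = Fintype.card F)
    (D : GL (Fin 2) F)
    {H : Subgroup (SpecialLinearGroup (Fin 2) F)} (hNH : pre (subM L D) ≤ H) (hH : H ≠ ⊤) :
    H ≤ pre (subM L D) := by
  have h2 : (2 : F) ≠ 0 := PSub.two_ne_zero_of_odd_card hodd
  have hZ : center (SpecialLinearGroup (Fin 2) F) ≤ H := (center_le_pre _).trans hNH
  rcases dickson_full' p H hZ with h | h | h | ⟨K, D', hIn, hK⟩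
  · exact (ovs_bor hNH h).elim
  · exact (ovs_tor h2 hNH h).elim
  · exact ovs_exc hodd hl hlo hL D hNH h
  · exact ovs_insub hodd hl hL D hNH hH hIn

theorem main90 [Fintype F] (h4 : 4 ≤ Fintype.card F) (h7 : Fintype.card F ≠ 7)
    (h9 : Fintype.card F ≠ 9) (h11 : Fintype.card F ≠ 11)
    (h40 : (Fintype.card F).Prime → Fintype.card F % 40 ∉ ({11, 19, 21, 29} : Finset ℕ))
    (M : Subgroup (Matrix.ProjGenLinGroup (Fin 2) F)) (hM : IsCoatom M)
    (hML : ¬ (Matrix.ProjGenLinGroup.mk.comp Matrix.SpecialLinearGroup.toGL).range ≤ M) :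
    IsCoatom ((M ⊓ (Matrix.ProjGenLinGroup.mk.comp Matrix.SpecialLinearGroup.toGL).range).subgroupOf
      (Matrix.ProjGenLinGroup.mk.comp Matrix.SpecialLinearGroup.toGL).range) := by
  have h : Ctx M := ⟨hM, hML⟩
  by_cases hodd : Odd (Fintype.card F)
  · have h3 : 3 < Fintype.card F := by omega
    obtain ⟨p, hp⟩ := CharP.exists F
    have : Fact p.Prime := ⟨CharP.char_is_prime F p⟩
    have hZ := center_le_G0 M
    apply coatom_of_G0 (G0_ne_top h)
    intro H hNH hH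
    rcases struct hodd h3 h with hB | ⟨x, a, hs, hG, hax, ha4⟩ | ⟨hpr, h8, h24, ⟨e⟩⟩ | ⟨K, D, hK, hle⟩
    · exact ovb hodd h3 p hZ hNH hH hB
    · rw [hG] at hNH ⊢
      exact ovt hodd h3 h7 h9 h11 p hs hax ha4 hNH hH
    · exact ova hodd h3 p hpr h8 (h40 hpr) hZ hNH hH h24 e
    · obtain ⟨L, l, hl, hlo, hL, hML'⟩ := maxsub' hodd h hK D hle
      have hG : G0 M = pre (subM L D) := by rw [hML']; rfl
      rw [hG] at hNH ⊢
      exact ovs hodd h3 p hl hlo hL D hNH hH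
  · exact coatom_of_even hodd h


end Cfsg.Agent.Lib.Helper7.PGLMax
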